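import Cfsg.Agent.H537.OreM.Even
import Cfsg.Agent.H349.RM.Defs
import Cfsg.Agent.H164.ThFiveRow

/-!
# S3509, row M, box B1 (helper716): elements of order 5, 7 commuting with an even element of order 3 are even
-/

set_option autoImplicit false
set_option maxRecDepth 100000

namespace Cfsg.Agent.H716.RM

open Subgroup Cfsg
open Cfsg.Agent.BpSpor.MBigModel (MG)
open Cfsg.Agent.H349.RM (EvI)

theorem two_dvd_of_invol {G : Type*} [Group G] [Finite G] {x t : G} (ht : orderOf t = 2) (h : t * x = x * t) :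
    2 ∣ Nat.card ↥(centralizer ({x} : Set G)) := by
  rw [← ht, ← Subgroup.orderOf_mk _ (mem_centralizer_singleton_iff.2 h)]
  exact orderOf_dvd_natCard _

theorem invol_of_two_dvd {G : Type*} [Group G] [Finite G] {x : G} (h : 2 ∣ Nat.card ↥(centralizer ({x} : Set G))) :
    ∃ t : G, orderOf t = 2 ∧ t * x = x * t := by
  have : Fact (Nat.Prime 2) := ⟨Nat.prime_two⟩
  obtain ⟨t, ht⟩ := exists_prime_orderOf_dvd_card' 2 h
  exact ⟨t, by rw [Subgroup.orderOf_coe, ht], mem_centralizer_singleton_iff.1 t.2⟩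

theorem even_th_five (a : Spor.Th) (ha : orderOf a = 5) : 2 ∣ Nat.card ↥(centralizer ({a} : Set Spor.Th)) := by
  have := Cfsg.Agent.KFacts.Th.Main.finite
  obtain ⟨s, hs, hsa⟩ := Cfsg.Agent.H164.ThFiveRow.exists_invol ha
  exact two_dvd_of_invol hs hsa

theorem even_fi_five (x : Spor.Fi24') (hx : orderOf x = 5) : 2 ∣ Nat.card ↥(centralizer ({x} : Set Spor.Fi24')) := by
  have := Cfsg.Agent.H968.Tor.finite24
  obtain ⟨a, ha, hxa⟩ := Cfsg.Agent.H968.Tor.fx_ne (p := 5) (by norm_num) (by norm_num) (x := (x : Spor.Fi24))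
    (by rw [Subgroup.orderOf_coe]; exact hx)
  obtain ⟨t, ht, hta⟩ := Cfsg.Agent.H968.Tor.ev_of_fix (p := 5) (by norm_num) (by norm_num) hx ha hxa
  exact two_dvd_of_invol ht hta

/-- **B1** (helper349) -/
theorem i3 {q : ℕ} (hq : q = 5 ∨ q = 7) {x y : MG} (hx : orderOf x = q) (hy : orderOf y = 3) (he : EvI y)
    (h : x * y = y * x) : EvI x := by
  have := BpSpor.MBigModel.finite
  obtain ⟨s, hs, hsy⟩ := he
  have hev : Cfsg.Agent.H199.NSmMon.Ev y := by
    apply Cfsg.Agent.H199.NSmMon.ev_of_even hy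
    rw [Nat.not_odd_iff_even, even_iff_two_dvd]
    exact two_dvd_of_invol hs hsy
  apply invol_of_two_dvd
  rcases hq with rfl | rfl
  · exact Cfsg.Agent.H537.OreM.even_of_three' (by norm_num) (by norm_num) even_th_five even_fi_five hy hev hx h
  · exact Cfsg.Agent.H537.OreM.even_of_three' (by norm_num) (by norm_num) Cfsg.Agent.H537.OreM.even_th_seven
      Cfsg.Agent.H537.OreM.even_fi_seven hy hev hx h

end Cfsg.Agent.H716.RM
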